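import Cfsg.Agent.ONanFortyFive.Code
import Cfsg.Agent.ONanFortyFive.Data
import Cfsg.Agent.ONanCert.Setup

/-!
Kernel checks on the eight 45 × 45 matrices: the relators of the O'Nan group hold up to the
scalars 1 and 4, and two of the matrices are diagonalised with determinant one.
-/

set_option autoImplicit false
set_option maxRecDepth 100000
set_option Elab.async false

namespace CfsgLib.ONanFortyFive

noncomputable section

/-- The code of a letter. -/
def mats : ℕ → List ℕ
  | 0 => g0
  | 1 => g1
  | 2 => g2
  | 3 => g3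
  | 4 => g4
  | 5 => g5
  | 6 => g6
  | _ => g7

/-- The product of a word is the scalar 1 or the scalar 4. -/
def okWord (w : List ℕ) : Bool :=
  isScalar 1 (w.map mats) || isScalar 4 (w.map mats)

/-- The diagonal entries of `dd`. -/
def dEntry (i : ℕ) : ℕ := if i < 24 then 6 else 1

theorem mats_ok_low : [0, 1, 2, 3].all (fun x => ok (mats x)) = true := by decide +kernel

theorem mats_ok_high : [4, 5, 6, 7].all (fun x => ok (mats x)) = true := by decide +kernel

theorem bases_ok : [pA, qA, pD, qD, dd].all ok = true := by decide +kernel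

theorem letters_inv : (List.range 8).all (fun x =>
    isScalar 1 [mats x, mats (ONanCert.iv x)]) = true := by decide +kernel

theorem omega_ok :
    isScalar 4 ([1, 2, 3, 6, 1, 2, 3, 6, 1, 2, 3, 6, 1, 2, 3, 6, 1, 2, 3, 6].map mats) = true := by
  decide +kernel

theorem braid_ok :
    [[0, 1, 0, 1, 0, 1], [1, 2, 1, 2, 1, 2], [3, 4, 3, 4, 3, 4], [4, 5, 4, 5, 4, 5],
      [0, 5, 7, 7], [0, 0], [1, 1], [2, 2], [3, 3], [4, 4], [5, 5]].all
      (fun w => isScalar 1 (w.map mats)) = true := by decide +kernel

theorem diag_ok : isScalar 1 [pA, qA] = true ∧ isScalar 1 [pD, qD] = true ∧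
    isSame [pA, dd, qA] [g0] = true ∧ isSame [pD, dd, qD] [g3] = true := by
  refine ⟨?_, ?_, ?_, ?_⟩ <;> decide +kernel

theorem dd_ok : (List.range 45).all (fun i =>
    Nat.beq (dd.getD i 0) (unit i (dEntry i))) = true := by decide +kernel

theorem not_scalar : Nat.beq (slot ((mats 0).getD 0 0) 1) 0 = false := by decide +kernel

end

end CfsgLib.ONanFortyFive
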