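import Mathlib

/-!
Packed 45 × 45 matrices over the field with seven elements: a row is one natural number with the
entries in base 65536, a row vector is pushed through a word of matrices one at a time.
-/

set_option autoImplicit false

namespace CfsgLib.ONanFortyFive

open Matrix

noncomputable section

/-- The entry `j` of a packed row. -/
def slot : ℕ → ℕ → ℕ
  | r, 0 => r % 65536
  | r, j + 1 => slot (r / 65536) j

/-- Evaluate `m` to a numeral before passing it on. -/
def force (m : ℕ) (f : ℕ → ℕ) : ℕ :=
  Nat.rec (f Nat.zero) (fun p _ => f (Nat.succ p)) m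

theorem force_eq (m : ℕ) (f : ℕ → ℕ) : force m f = f m := by cases m <;> rfl

/-- A combination of rows with the entries of `r` as coefficients, not reduced. -/
def comb (M : List ℕ) (r : ℕ) : ℕ :=
  List.rec (fun _ => 0)
    (fun m _ ih r => Nat.add (Nat.mul (Nat.mod r 65536) m) (force (Nat.div r 65536) ih)) M r

/-- Reduce the first `n` entries modulo seven. -/
def red (n r : ℕ) : ℕ :=
  Nat.rec (fun _ => 0)
    (fun _ ih r => Nat.add (Nat.mod (Nat.mod r 65536) 7)
      (Nat.mul 65536 (force (Nat.div r 65536) ih))) n r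

/-- A row vector times a matrix. -/
def step (M : List ℕ) (r : ℕ) : ℕ := force (comb M r) (red 45)

/-- A row vector times a product of matrices. -/
def push (w : List (List ℕ)) (r : ℕ) : ℕ :=
  List.rec (fun r => r) (fun M _ ih r => force (step M r) ih) w r

/-- The first `n` entries of a packed row are below seven and there are no others. -/
def okSlots (n m : ℕ) : Bool :=
  Nat.rec (fun m => Nat.beq m 0)
    (fun _ ih m => Nat.blt (Nat.mod m 65536) 7 &&
      Nat.rec (ih Nat.zero) (fun p _ => ih (Nat.succ p)) (Nat.div m 65536)) n m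

/-- A packed row has 45 entries, all below seven. -/
def okRow (m : ℕ) : Bool := okSlots 45 m

/-- A matrix code is well formed. -/
def ok (M : List ℕ) : Bool := Nat.beq M.length 45 && M.all okRow

/-- The packed unit vector. -/
def unit (i c : ℕ) : ℕ := c * 65536 ^ i

/-- The product of the matrices of `w` is the scalar `c`. -/
def isScalar (c : ℕ) (w : List (List ℕ)) : Bool :=
  (List.range 45).all fun i => Nat.beq (push w (unit i 1)) (unit i c)

/-- The products of two words of matrices agree. -/
def isSame (u v : List (List ℕ)) : Bool :=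
  (List.range 45).all fun i => Nat.beq (push u (unit i 1)) (push v (unit i 1))

/-- The row vector of a packed row. -/
def vec (r : ℕ) : Fin 45 → ZMod 7 := fun j => (slot r j : ZMod 7)

/-- The matrix of a code. -/
def toMat (M : List ℕ) : Matrix (Fin 45) (Fin 45) (ZMod 7) :=
  Matrix.of fun i => vec (M.getD i 0)

theorem slot_sum : ∀ (n : ℕ) (f : ℕ → ℕ), (∀ j < n, f j < 65536) → ∀ j,
    slot (∑ k ∈ Finset.range n, f k * 65536 ^ k) j = if j < n then f j else 0 := by
  intro n
  induction n with
  | zero =>
    intro f _ j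
    induction j with
    | zero => simp [slot]
    | succ j ih => simpa [slot] using ih
  | succ n ih =>
    intro f hf j
    have hs : ∑ k ∈ Finset.range (n + 1), f k * 65536 ^ k =
        f 0 + 65536 * ∑ k ∈ Finset.range n, f (k + 1) * 65536 ^ k := by
      rw [Finset.sum_range_succ', Finset.mul_sum, add_comm, pow_zero, mul_one]
      refine congrArg _ (Finset.sum_congr rfl fun k _ => ?_)
      rw [pow_succ]; ring
    have h0 : f 0 < 65536 := hf 0 (Nat.succ_pos n)
    rw [hs]
    cases j with
    | zero =>
      rw [slot, Nat.add_mul_mod_self_left, Nat.mod_eq_of_lt h0, if_pos (Nat.succ_pos n)]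
    | succ j =>
      rw [slot, Nat.add_mul_div_left _ _ (by norm_num : (0 : ℕ) < 65536),
        Nat.div_eq_of_lt h0, zero_add, ih (fun k => f (k + 1)) fun k hk => hf _ (by omega)]
      simp

theorem eq_sum_slot : ∀ (n m : ℕ), m < 65536 ^ n →
    m = ∑ k ∈ Finset.range n, slot m k * 65536 ^ k := by
  intro n
  induction n with
  | zero => intro m hm; simp at hm ⊢; omega
  | succ n ih =>
    intro m hm
    have h : m / 65536 < 65536 ^ n :=
      (Nat.div_lt_iff_lt_mul (by norm_num)).mpr (by rwa [← pow_succ])
    have e := ih _ h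
    rw [Finset.sum_range_succ', pow_zero, mul_one]
    calc m = m / 65536 * 65536 + m % 65536 := (Nat.div_add_mod' m 65536).symm
      _ = (∑ k ∈ Finset.range n, slot (m / 65536) k * 65536 ^ k) * 65536 + m % 65536 := by rw [← e]
      _ = _ := by
        rw [Finset.sum_mul, slot]
        refine congrArg (· + _) (Finset.sum_congr rfl fun k _ => ?_)
        rw [slot, pow_succ]; ring

theorem comb_eq : ∀ (M : List ℕ) (r : ℕ),
    comb M r = ∑ k ∈ Finset.range M.length, slot r k * M.getD k 0 := by
  intro M
  induction M with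
  | nil => intro r; simp [comb]
  | cons m M ih =>
    intro r
    show Nat.add (Nat.mul (Nat.mod r 65536) m) (force (Nat.div r 65536) (comb M)) = _
    rw [force_eq, ih, List.length_cons, Finset.sum_range_succ', List.getD_cons_zero]
    simp only [List.getD_cons_succ, slot]
    exact add_comm _ _

theorem red_eq : ∀ (n r : ℕ),
    red n r = ∑ k ∈ Finset.range n, slot r k % 7 * 65536 ^ k := by
  intro n
  induction n with
  | zero => intro r; simp [red]
  | succ n ih =>
    intro r
    show Nat.add (Nat.mod (Nat.mod r 65536) 7)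
      (Nat.mul 65536 (force (Nat.div r 65536) (red n))) = _
    rw [force_eq, ih, Finset.sum_range_succ', pow_zero, mul_one]
    show r % 65536 % 7 + 65536 * _ = _
    rw [Finset.mul_sum, add_comm]
    refine congrArg₂ _ (Finset.sum_congr rfl fun k _ => ?_) rfl
    show _ = slot (r / 65536) k % 7 * _
    rw [pow_succ]; ring_nf; rfl

theorem okSlots_spec : ∀ (n m : ℕ), okSlots n m = true →
    m < 65536 ^ n ∧ ∀ j < n, slot m j < 7 := by
  intro n
  induction n with
  | zero =>
    intro m h
    have h0 : m = 0 := Nat.eq_of_beq_eq_true h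
    exact ⟨by simp [h0], fun j hj => absurd hj (Nat.not_lt_zero j)⟩
  | succ n ih =>
    intro m h
    change (Nat.blt (m % 65536) 7 && Nat.rec (okSlots n Nat.zero)
      (fun p _ => okSlots n (Nat.succ p)) (m / 65536)) = true at h
    rw [Bool.and_eq_true] at h
    have h' : okSlots n (m / 65536) = true := by
      generalize m / 65536 = q at h
      cases q <;> exact h.2
    obtain ⟨h1, h2⟩ := ih _ h'
    refine ⟨?_, fun j hj => ?_⟩
    · rw [pow_succ]
      exact (Nat.div_lt_iff_lt_mul (by norm_num)).mp h1
    · cases j with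
      | zero => exact Nat.le_of_ble_eq_true h.1
      | succ j => exact h2 j (Nat.lt_of_succ_lt_succ hj)

theorem ok_spec {M : List ℕ} (h : ok M = true) : M.length = 45 ∧
    ∀ k < 45, M.getD k 0 < 65536 ^ 45 ∧ ∀ j < 45, slot (M.getD k 0) j < 7 := by
  rw [ok, Bool.and_eq_true] at h
  have hl : M.length = 45 := Nat.eq_of_beq_eq_true h.1
  refine ⟨hl, fun k hk => ?_⟩
  have hm := List.all_eq_true.mp h.2 (M.getD k 0) (by
    rw [List.getD_eq_getElem _ _ (hl ▸ hk)]; exact List.getElem_mem _)
  exact okSlots_spec 45 _ hm

/-- The invariant of row vectors: all entries are below seven. -/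
def Good (r : ℕ) : Prop := ∀ j < 45, slot r j < 7

theorem slot_red (n r j : ℕ) (hj : j < n) : slot (red n r) j = slot r j % 7 := by
  rw [red_eq, slot_sum n (fun k => slot r k % 7)
    (fun k _ => lt_trans (Nat.mod_lt _ (by norm_num)) (by norm_num)), if_pos hj]

theorem slot_comb (n : ℕ) (M : List ℕ) (r : ℕ) (hl : M.length = n) (hn : n * 36 < 65536)
    (hM : ∀ k < n, M.getD k 0 < 65536 ^ n ∧ ∀ j < n, slot (M.getD k 0) j < 7)
    (hr : ∀ k < n, slot r k < 7) (j : ℕ) (hj : j < n) :
    slot (comb M r) j = ∑ k ∈ Finset.range n, slot r k * slot (M.getD k 0) j := by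
  have hcomb : comb M r =
      ∑ i ∈ Finset.range n, (∑ k ∈ Finset.range n, slot r k * slot (M.getD k 0) i) * 65536 ^ i := by
    rw [comb_eq, hl]
    simp only [Finset.sum_mul]
    rw [Finset.sum_comm]
    refine Finset.sum_congr rfl fun k hk => ?_
    conv_lhs => rw [eq_sum_slot n _ (hM k (Finset.mem_range.mp hk)).1]
    rw [Finset.mul_sum]
    exact Finset.sum_congr rfl fun i _ => (mul_assoc _ _ _).symm
  have hb : ∀ i < n, ∑ k ∈ Finset.range n, slot r k * slot (M.getD k 0) i < 65536 := by
    intro i hi
    have := Finset.sum_le_card_nsmul (Finset.range n) (fun k => slot r k * slot (M.getD k 0) i) 36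
      fun k hk => Nat.mul_le_mul (Nat.le_of_lt_succ (hr k (Finset.mem_range.mp hk)))
        (Nat.le_of_lt_succ ((hM k (Finset.mem_range.mp hk)).2 i hi))
    rw [Finset.card_range, smul_eq_mul] at this
    omega
  rw [hcomb, slot_sum n (fun i => ∑ k ∈ Finset.range n, slot r k * slot (M.getD k 0) i) hb,
    if_pos hj]

theorem step_eq (n : ℕ) (M : List ℕ) (r : ℕ) : force (comb M r) (red n) = red n (comb M r) :=
  force_eq _ _

theorem step_spec {M : List ℕ} (h : ok M = true) {r : ℕ} (hr : Good r) :
    Good (step M r) ∧ vec (step M r) = vec r ᵥ* toMat M := by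
  obtain ⟨hl, hM⟩ := ok_spec h
  have hs : ∀ j, j < 45 → slot (step M r) j =
      (∑ k ∈ Finset.range 45, slot r k * slot (M.getD k 0) j) % 7 := fun j hj => by
    have h1 : step M r = red 45 (comb M r) := step_eq 45 M r
    rw [h1, slot_red 45 _ _ hj, slot_comb 45 M r hl (by norm_num) hM hr j hj]
  refine ⟨fun j hj => lt_of_eq_of_lt (hs j hj) (Nat.mod_lt _ (by norm_num)), funext fun j => ?_⟩
  show (slot (step M r) j.val : ZMod 7) = _
  rw [hs j.val j.isLt, ZMod.natCast_mod, Nat.cast_sum]
  simp only [Matrix.vecMul, dotProduct, toMat, vec, Matrix.of_apply, Nat.cast_mul]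
  exact (Fin.sum_univ_eq_sum_range
    (fun k => (slot r k : ZMod 7) * (slot (M.getD k 0) j.val : ZMod 7)) 45).symm

theorem push_spec : ∀ (w : List (List ℕ)), (∀ M ∈ w, ok M = true) → ∀ r, Good r →
    Good (push w r) ∧ vec (push w r) = vec r ᵥ* (w.map toMat).prod := by
  intro w
  induction w with
  | nil => intro _ r hr; exact ⟨hr, by simp [push]⟩
  | cons M w ih =>
    intro hw r hr
    obtain ⟨h1, h2⟩ := step_spec (hw M List.mem_cons_self) hr
    obtain ⟨h3, h4⟩ := ih (fun N hN => hw N (List.mem_cons_of_mem M hN)) _ h1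
    have he : push (M :: w) r = push w (step M r) := by
      show force (step M r) (fun s => push w s) = _
      rw [force_eq]
    rw [he]
    refine ⟨h3, ?_⟩
    rw [h4, h2, List.map_cons, List.prod_cons, Matrix.vecMul_vecMul]

theorem slot_unit (i : Fin 45) {c : ℕ} (hc : c < 65536) (j : ℕ) :
    slot (unit i c) j = if j = i then c else 0 := by
  have h : unit i c = ∑ k ∈ Finset.range 45, (if k = i.val then c else 0) * 65536 ^ k := by
    rw [Finset.sum_eq_single i.val]
    · simp [unit]
    · intro b _ hb; simp [hb]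
    · intro hi; exact absurd (Finset.mem_range.mpr i.isLt) hi
  rw [h, slot_sum 45 _ (fun k _ => by split <;> omega)]
  have := i.isLt
  split_ifs <;> first | rfl | omega

theorem good_unit (i : Fin 45) {c : ℕ} (hc : c < 7) : Good (unit i c) := fun j _ => by
  rw [slot_unit i (by omega)]; split <;> omega

theorem vec_unit (i : Fin 45) {c : ℕ} (hc : c < 7) :
    vec (unit i c) = Pi.single i (c : ZMod 7) := by
  funext j
  rw [vec, slot_unit i (by omega)]
  by_cases h : j = i
  · subst h; simp
  · rw [if_neg (fun h' => h (Fin.ext h')), Pi.single_eq_of_ne h, Nat.cast_zero]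

theorem prod_apply {w : List (List ℕ)} (hw : ∀ M ∈ w, ok M = true) (i : Fin 45) :
    vec (push w (unit i 1)) = (w.map toMat).prod i := by
  rw [(push_spec w hw _ (good_unit i (by norm_num))).2, vec_unit i (by norm_num), Nat.cast_one,
    Matrix.single_one_vecMul]
  rfl

theorem prod_eq_scalar {c : ℕ} (hc : c < 7) {w : List (List ℕ)}
    (hw : ∀ M ∈ w, ok M = true) (h : isScalar c w = true) :
    (w.map toMat).prod = Matrix.scalar (Fin 45) (c : ZMod 7) := by
  refine funext fun i => ?_
  rw [← prod_apply hw i,
    Nat.eq_of_beq_eq_true (List.all_eq_true.mp h i.val (List.mem_range.mpr i.isLt)),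
    vec_unit i hc]
  funext j
  rw [Matrix.scalar_apply, Matrix.diagonal_apply]
  by_cases hij : i = j
  · subst hij; simp
  · rw [if_neg hij, Pi.single_eq_of_ne (Ne.symm hij)]

theorem prod_eq_prod {u v : List (List ℕ)} (hu : ∀ M ∈ u, ok M = true)
    (hv : ∀ M ∈ v, ok M = true) (h : isSame u v = true) :
    (u.map toMat).prod = (v.map toMat).prod := by
  refine funext fun i => ?_
  rw [← prod_apply hu i, ← prod_apply hv i,
    Nat.eq_of_beq_eq_true (List.all_eq_true.mp h i.val (List.mem_range.mpr i.isLt))]

end

end CfsgLib.ONanFortyFive
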