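import Cfsg.Agent.ONanFortyFive.Check

/-! Kernel checks of the relators of the O'Nan group on the 45 × 45 matrices, extra part. -/

set_option autoImplicit false
set_option maxRecDepth 100000
set_option Elab.async false

namespace CfsgLib.ONanFortyFive

noncomputable section

theorem words_ok4 : ((ONanCert.words.drop 25).take 2).all okWord = true := by
  decide +kernel

theorem words_ok5 : ((ONanCert.words.drop 27).take 3).all okWord = true := by
  decide +kernel

end

end CfsgLib.ONanFortyFive
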