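import Cfsg.Agent.ONanFortyFive.WordsLow
import Cfsg.Agent.ONanFortyFive.WordsMid
import Cfsg.Agent.ONanFortyFive.WordsHigh
import Cfsg.Agent.ONanFortyFive.WordsExtra
import Cfsg.Agent.ONanCert.Order
import Cfsg.Agent.ONanAct.Simple
import Cfsg.Prelude.Def_Sporadic

/-!
The triple cover of the O'Nan group inside SL(45, 7): the eight matrices satisfy the relators of
the presentation up to scalars, so the presented group maps to SL(45, 7) modulo its centre of
order three, injectively by simplicity, and the product of one relator is a nontrivial scalar.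
-/

set_option autoImplicit false
set_option maxRecDepth 100000

namespace CfsgLib.ONanFortyFive

open CfsgLib.CosetEnum Cfsg.Spor

noncomputable section

instance : Fact (Nat.Prime 7) := ⟨by norm_num⟩

/-- The special linear group holding the cover. -/
abbrev SL45 : Type := Matrix.SpecialLinearGroup (Fin 45) (ZMod 7)

/-- The matrix of a letter. -/
def tM (x : ℕ) : Matrix (Fin 45) (Fin 45) (ZMod 7) := toMat (mats x)

theorem mats_mem_ok : ∀ x < 8, ok (mats x) = true := by
  intro x hx
  have h1 := List.all_eq_true.mp mats_ok_low x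
  have h2 := List.all_eq_true.mp mats_ok_high x
  simp only [List.mem_cons, List.not_mem_nil, or_false] at h1 h2
  by_cases h : x < 4
  · exact h1 (by omega)
  · exact h2 (by omega)

theorem map_ok {w : List ℕ} (hw : ∀ x ∈ w, x < 8) : ∀ M ∈ w.map mats, ok M = true := by
  intro M hM
  obtain ⟨x, hx, rfl⟩ := List.mem_map.mp hM
  exact mats_mem_ok x (hw x hx)

theorem map_map_toMat (w : List ℕ) : (w.map mats).map toMat = w.map tM := List.map_map

theorem word_scalar {c : ℕ} (hc : c < 7) {w : List ℕ} (hw : ∀ x ∈ w, x < 8)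
    (h : isScalar c (w.map mats) = true) :
    (w.map tM).prod = Matrix.scalar (Fin 45) (c : ZMod 7) := by
  rw [← map_map_toMat]
  exact prod_eq_scalar hc (map_ok hw) h

theorem word_one {w : List ℕ} (hw : ∀ x ∈ w, x < 8) (h : isScalar 1 (w.map mats) = true) :
    (w.map tM).prod = 1 := by
  rw [word_scalar (by norm_num) hw h, Nat.cast_one, map_one]

theorem braid_mem {w : List ℕ} (hm : w ∈ [[0, 1, 0, 1, 0, 1], [1, 2, 1, 2, 1, 2], [3, 4, 3, 4, 3, 4],
      [4, 5, 4, 5, 4, 5], [0, 5, 7, 7], [0, 0], [1, 1], [2, 2], [3, 3], [4, 4], [5, 5]]) :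
    (w.map tM).prod = 1 := by
  refine word_one ?_ (List.all_eq_true.mp braid_ok w hm)
  revert w
  decide

theorem tM_mul_iv (x : ℕ) (hx : x < 8) : tM x * tM (ONanCert.iv x) = 1 := by
  have h := List.all_eq_true.mp letters_inv x (List.mem_range.mpr hx)
  have hiv : ∀ y < 8, ONanCert.iv y < 8 := by decide
  have e := word_one (w := [x, ONanCert.iv x]) (fun y hy => by
    rcases List.mem_cons.mp hy with rfl | hy
    · exact hx
    · rw [List.mem_singleton] at hy; exact hy ▸ hiv x hx) h
  rwa [List.map_cons, List.map_cons, List.map_nil, List.prod_cons, List.prod_cons, List.prod_nil,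
    mul_one] at e

theorem toMat_dd : toMat dd = Matrix.diagonal fun i : Fin 45 => ((dEntry i : ℕ) : ZMod 7) := by
  refine funext fun i => ?_
  have h := Nat.eq_of_beq_eq_true (List.all_eq_true.mp dd_ok i.val (List.mem_range.mpr i.isLt))
  show vec (dd.getD i 0) = _
  rw [h, vec_unit i (by unfold dEntry; split <;> norm_num)]
  funext j
  rw [Matrix.diagonal_apply]
  by_cases hij : i = j
  · subst hij; simp
  · rw [if_neg hij, Pi.single_eq_of_ne (Ne.symm hij)]

theorem det_dd : (toMat dd).det = 1 := by
  rw [toMat_dd, Matrix.det_diagonal]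
  decide +kernel

theorem det_of_diag {P Q : List ℕ} {x : ℕ} (hx : x < 8) (hP : ok P = true) (hQ : ok Q = true)
    (h1 : isScalar 1 [P, Q] = true) (h2 : isSame [P, dd, Q] [mats x] = true) :
    (tM x).det = 1 := by
  have hd : ok dd = true := List.all_eq_true.mp bases_ok dd (by simp)
  have e1 : toMat P * toMat Q = 1 := by
    have := prod_eq_scalar (c := 1) (by norm_num) (w := [P, Q]) (by simp [hP, hQ]) h1
    simpa using this
  have e2 : toMat P * (toMat dd * toMat Q) = tM x := by
    have := prod_eq_prod (u := [P, dd, Q]) (v := [mats x]) (by simp [hP, hQ, hd])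
      (by simp [mats_mem_ok x hx]) h2
    simpa [tM] using this
  rw [← e2, Matrix.det_mul, Matrix.det_mul, det_dd, one_mul, ← Matrix.det_mul, e1, Matrix.det_one]

theorem det_braid {x y : ℕ} (hx : (tM x).det = 1)
    (h : ([x, y, x, y, x, y].map tM).prod = 1) (hy : ([y, y].map tM).prod = 1) :
    (tM y).det = 1 := by
  have key : ∀ d : ZMod 7, d * d = 1 → d * (d * d) = 1 → d = 1 := by decide
  have h1 := congrArg Matrix.det h
  have h2 := congrArg Matrix.det hy
  simp only [List.map_cons, List.map_nil, List.prod_cons, List.prod_nil, mul_one, Matrix.det_mul,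
    Matrix.det_one, hx, one_mul] at h1 h2
  exact key _ h2 h1

theorem tM_zero_entry : tM 0 0 1 = ((slot ((mats 0).getD 0 0) 1 : ℕ) : ZMod 7) := by
  rw [tM, toMat, Matrix.of_apply, vec]
  rfl

/-- The relator `(b c d g)^5`. -/
def omW : List ℕ := [1, 2, 3, 6, 1, 2, 3, 6, 1, 2, 3, 6, 1, 2, 3, 6, 1, 2, 3, 6]

theorem omW_prod : (omW.map tM).prod = Matrix.scalar (Fin 45) (4 : ZMod 7) := by
  refine (word_scalar (c := 4) (w := omW) (by norm_num) (by decide) omega_ok).trans ?_
  rw [Nat.cast_ofNat]

theorem det_tM : ∀ x < 8, (tM x).det = 1 := by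
  have ha : (tM 0).det = 1 := det_of_diag (P := pA) (Q := qA) (by norm_num)
    (List.all_eq_true.mp bases_ok pA (by simp)) (List.all_eq_true.mp bases_ok qA (by simp))
    diag_ok.1 diag_ok.2.2.1
  have hd : (tM 3).det = 1 := det_of_diag (P := pD) (Q := qD) (by norm_num)
    (List.all_eq_true.mp bases_ok pD (by simp)) (List.all_eq_true.mp bases_ok qD (by simp))
    diag_ok.2.1 diag_ok.2.2.2
  have hb : (tM 1).det = 1 := det_braid ha (braid_mem (by simp)) (braid_mem (by simp))
  have hc : (tM 2).det = 1 := det_braid hb (braid_mem (by simp)) (braid_mem (by simp))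
  have he : (tM 4).det = 1 := det_braid hd (braid_mem (by simp)) (braid_mem (by simp))
  have hf : (tM 5).det = 1 := det_braid he (braid_mem (by simp)) (braid_mem (by simp))
  have h67 : (tM 6).det * (tM 7).det = 1 := by
    have := congrArg Matrix.det (tM_mul_iv 6 (by norm_num))
    rwa [Matrix.det_mul, Matrix.det_one] at this
  have h77 : (tM 7).det * (tM 7).det = 1 := by
    have := congrArg Matrix.det (braid_mem (w := [0, 5, 7, 7]) (by simp))
    simpa [Matrix.det_mul, ha, hf] using this
  have h5 : (tM 6).det ^ 5 = 1 := by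
    have := congrArg Matrix.det omW_prod
    rw [show (Matrix.scalar (Fin 45) (4 : ZMod 7)) = Matrix.diagonal fun _ => (4 : ZMod 7) from rfl,
      Matrix.det_diagonal, Finset.prod_const, Finset.card_univ, Fintype.card_fin] at this
    simp only [omW, List.map_cons, List.map_nil, List.prod_cons, List.prod_nil, mul_one,
      Matrix.det_mul, hb, hc, hd, one_mul] at this
    rw [show (4 : ZMod 7) ^ 45 = 1 by decide] at this
    rw [← this]; ring
  have key : ∀ p q : ZMod 7, p * q = 1 → q * q = 1 → p ^ 5 = 1 → p = 1 ∧ q = 1 := by decide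
  obtain ⟨hg, hg'⟩ := key _ _ h67 h77 h5
  intro x hx
  interval_cases x
  exacts [ha, hb, hc, hd, he, hf, hg, hg']

/-- A letter in the special linear group. -/
def S (x : ℕ) : SL45 := if hx : x < 8 then ⟨tM x, det_tM x hx⟩ else 1

theorem S_val {x : ℕ} (hx : x < 8) : (S x).val = tM x := by
  have e : S x = (⟨tM x, det_tM x hx⟩ : SL45) := dif_pos hx
  rw [e]

attribute [local irreducible] S tM

theorem coe_prodw (w : List ℕ) (hw : ∀ x ∈ w, x < 8) :
    (prodw S w).val = (w.map tM).prod := by
  induction w with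
  | nil => rw [prodw_nil, List.map_nil, List.prod_nil]; exact Matrix.SpecialLinearGroup.coe_one
  | cons x w ih =>
    rw [prodw_cons, List.map_cons, List.prod_cons, Matrix.SpecialLinearGroup.coe_mul,
      ih (fun y hy => hw y (List.mem_cons_of_mem x hy)), S_val (hw x List.mem_cons_self)]

theorem S_seven : S 7 = (S 6)⁻¹ := by
  have e : (S 6).val * (S 7).val = 1 := by
    rw [S_val (by norm_num), S_val (by norm_num)]
    exact tM_mul_iv 6 (by norm_num)
  refine eq_inv_of_mul_eq_one_right (Subtype.ext ?_)
  rw [Matrix.SpecialLinearGroup.coe_mul, Matrix.SpecialLinearGroup.coe_one]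
  exact e

/-- The quotient map to SL(45, 7) modulo its centre. -/
def pr : SL45 →* SL45 ⧸ Subgroup.center SL45 := QuotientGroup.mk' _

theorem pr_eq_one {z : SL45} : pr z = 1 ↔ z ∈ Subgroup.center SL45 :=
  QuotientGroup.eq_one_iff z

theorem mem_center_of_scalar {z : SL45} {c : ZMod 7} (hc : c ^ 45 = 1)
    (h : z.val = Matrix.scalar (Fin 45) c) : z ∈ Subgroup.center SL45 :=
  Matrix.SpecialLinearGroup.mem_center_iff.mpr ⟨c, by rwa [Fintype.card_fin], h.symm⟩

theorem word_mem_center {w : List ℕ} (hw : w ∈ ONanCert.words) :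
    prodw S w ∈ Subgroup.center SL45 := by
  have hlt : ∀ u ∈ ONanCert.words, ∀ x ∈ u, x < 8 := by decide +kernel
  have hsplit : ONanCert.words = (ONanCert.words.drop 0).take 8 ++ (ONanCert.words.drop 8).take 8 ++
      (ONanCert.words.drop 16).take 7 ++ (ONanCert.words.drop 23).take 2 ++
      (ONanCert.words.drop 25).take 2 ++ (ONanCert.words.drop 27).take 3 := by decide +kernel
  have hok : okWord w = true := by
    have hw' := hw
    rw [hsplit] at hw'
    simp only [List.mem_append] at hw'
    rcases hw' with ((((h | h) | h) | h) | h) | h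
    exacts [List.all_eq_true.mp words_ok0 w h, List.all_eq_true.mp words_ok1 w h,
      List.all_eq_true.mp words_ok2 w h, List.all_eq_true.mp words_ok3 w h,
      List.all_eq_true.mp words_ok4 w h, List.all_eq_true.mp words_ok5 w h]
  rw [okWord, Bool.or_eq_true] at hok
  rcases hok with h | h
  · refine mem_center_of_scalar (c := ((1 : ℕ) : ZMod 7)) (by simp) ?_
    rw [coe_prodw w (hlt w hw)]
    exact word_scalar (by norm_num) (hlt w hw) h
  · refine mem_center_of_scalar (c := ((4 : ℕ) : ZMod 7)) (by decide) ?_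
    rw [coe_prodw w (hlt w hw)]
    exact word_scalar (by norm_num) (hlt w hw) h

/-- The images of the generators modulo the centre. -/
def fP (y : ON.Gen) : SL45 ⧸ Subgroup.center SL45 := pr (S (ONanCert.ix y))

theorem val_fP (x : ℕ) (hx : x < 8) : ONanCert.val fP x = pr (S x) := by
  interval_cases x <;> simp [ONanCert.val, fP, ONanCert.en, ONanCert.ix, S_seven]

theorem fP_rel : ∀ r ∈ coxRelators ON.edges ∪ {r | r ∈ ON.extra},
    FreeGroup.lift fP r = 1 := by
  refine ONanCert.lift_eq_one fP fun w hw => ?_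
  have hlt : ∀ u ∈ ONanCert.words, ∀ x ∈ u, x < 8 := by decide +kernel
  have e : prodw (ONanCert.val fP) w = pr (prodw S w) := by
    rw [prodw, prodw, map_list_prod, List.map_map]
    exact congrArg List.prod (List.map_congr_left fun x hx => val_fP x (hlt w hw x hx))
  rw [e, pr_eq_one]
  exact word_mem_center hw

/-- The presented group maps to SL(45, 7) modulo its centre. -/
def toPSL : Cfsg.Spor.ON →* SL45 ⧸ Subgroup.center SL45 := PresentedGroup.toGroup fP_rel

theorem toPSL_injective : Function.Injective toPSL := by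
  have hsimp : IsSimpleGroup Cfsg.Spor.ON := (ONanAct.isON ONanCert.card_ON_le).1
  rw [← MonoidHom.ker_eq_bot_iff]
  refine (hsimp.eq_bot_or_eq_top_of_normal _ inferInstance).resolve_right fun h => ?_
  have h0 : toPSL (PresentedGroup.of ON.Gen.a) = 1 := by
    rw [← MonoidHom.mem_ker, h]; exact Subgroup.mem_top _
  rw [toPSL, PresentedGroup.toGroup.of, fP, pr_eq_one,
    Matrix.SpecialLinearGroup.mem_center_iff] at h0
  obtain ⟨r, -, hr⟩ := h0
  have h1 := congrFun (congrFun hr (0 : Fin 45)) (1 : Fin 45)
  rw [Matrix.scalar_apply, Matrix.diagonal_apply_ne _ (by decide)] at h1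
  have h2 : (S (ONanCert.ix ON.Gen.a)).val 0 1 = ((slot ((mats 0).getD 0 0) 1 : ℕ) : ZMod 7) := by
    rw [ONanCert.ix, S_val (by norm_num)]
    exact tM_zero_entry
  rw [h2] at h1
  have h3 : slot ((mats 0).getD 0 0) 1 < 7 :=
    ((ok_spec (mats_mem_ok 0 (by norm_num))).2 0 (by norm_num)).2 1 (by norm_num)
  have h4 : slot ((mats 0).getD 0 0) 1 = 0 := by
    have := congrArg ZMod.val h1.symm
    rwa [ZMod.val_natCast, Nat.mod_eq_of_lt h3, ZMod.val_zero] at this
  have h5 := not_scalar
  rw [h4] at h5
  exact absurd h5 (by decide)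

/-- The cover: generated by the eight matrices. -/
def cover : Subgroup SL45 := Subgroup.closure (S '' {x | x < 8})

theorem map_cover : cover.map pr = toPSL.range := by
  rw [cover, MonoidHom.map_closure, MonoidHom.range_eq_map, ← ONanCert.closure_g,
    MonoidHom.map_closure, Set.image_image, Set.image_image]
  refine congrArg _ (Set.image_congr fun x hx => ?_)
  rw [← val_fP x hx, ONanCert.g, ONanCert.val, ONanCert.val]
  split <;> simp [toPSL, PresentedGroup.toGroup.of]

theorem card_center_SL : Nat.card (Subgroup.center SL45) = 3 := by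
  rw [Nat.card_congr (Matrix.SpecialLinearGroup.center_equiv_rootsOfUnity).toEquiv]
  have : Nat.card {u : (ZMod 7)ˣ // u ^ 45 = 1} = 3 := by
    rw [Nat.card_eq_fintype_card]; decide
  refine Eq.trans ?_ this
  refine Nat.card_congr (Equiv.subtypeEquivRight fun u => ?_)
  rw [mem_rootsOfUnity]
  simp

theorem center_le_of_mem {K : Subgroup SL45} {z : SL45} (hz : z ∈ K)
    (hval : z.val = Matrix.scalar (Fin 45) (4 : ZMod 7)) : Subgroup.center SL45 ≤ K := by
  have hzZ : z ∈ Subgroup.center SL45 := mem_center_of_scalar (by decide) hval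
  have hne : (⟨z, hzZ⟩ : Subgroup.center SL45) ≠ 1 := fun h => by
    have h' : z = 1 := congrArg Subtype.val h
    rw [h', Matrix.SpecialLinearGroup.coe_one] at hval
    have h1 := congrFun (congrFun hval (0 : Fin 45)) (0 : Fin 45)
    rw [Matrix.scalar_apply, Matrix.diagonal_apply_eq, Matrix.one_apply_eq] at h1
    exact absurd h1 (by decide)
  haveI : Fact (Nat.Prime 3) := ⟨by norm_num⟩
  intro y hy
  have htop := zpowers_eq_top_of_prime_card card_center_SL hne
  have hmem : (⟨y, hy⟩ : Subgroup.center SL45) ∈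
      Subgroup.zpowers (⟨z, hzZ⟩ : Subgroup.center SL45) :=
    htop ▸ Subgroup.mem_top _
  obtain ⟨k, hk⟩ := Subgroup.mem_zpowers_iff.mp hmem
  have hk' : z ^ k = y := (Subgroup.coe_zpow _ _ _).symm.trans (congrArg Subtype.val hk)
  exact hk' ▸ K.zpow_mem hz k

theorem center_le_cover : Subgroup.center SL45 ≤ cover := by
  refine center_le_of_mem (z := prodw S omW) ?_ ?_
  · refine Subgroup.list_prod_mem _ fun s hs => ?_
    obtain ⟨x, hx, rfl⟩ := List.mem_map.mp hs
    exact Subgroup.subset_closure ⟨x, (show ∀ y ∈ omW, y < 8 by decide) x hx, rfl⟩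
  · rw [coe_prodw _ (by decide), omW_prod]

/-- Restriction of the quotient map to the cover. -/
def prC : cover →* SL45 ⧸ Subgroup.center SL45 := pr.comp cover.subtype

theorem center_cover : Subgroup.center cover = prC.ker := by
  haveI hsimp : IsSimpleGroup Cfsg.Spor.ON := (ONanAct.isON ONanCert.card_ON_le).1
  refine le_antisymm (fun x hx => ?_) fun x hx => ?_
  · rw [MonoidHom.mem_ker]
    have hxm : prC x ∈ toPSL.range := map_cover ▸ Subgroup.mem_map_of_mem pr x.2
    obtain ⟨a, ha⟩ := hxm
    have hac : a ∈ Subgroup.center Cfsg.Spor.ON := by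
      refine Subgroup.mem_center_iff.mpr fun b => toPSL_injective ?_
      obtain ⟨y, hy, hyb⟩ : toPSL b ∈ cover.map pr := map_cover ▸ ⟨b, rfl⟩
      have hc := congrArg Subtype.val (Subgroup.mem_center_iff.mp hx ⟨y, hy⟩)
      rw [map_mul, map_mul, ha, ← hyb]
      show pr y * pr x.val = pr x.val * pr y
      rw [← map_mul, ← map_mul]
      exact congrArg pr hc
    rcases hsimp.eq_bot_or_eq_top_of_normal (Subgroup.center Cfsg.Spor.ON) inferInstance with h | h
    · rw [h, Subgroup.mem_bot] at hac
      rw [← ha, hac, map_one]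
    · exfalso
      have hcomm : ∀ p q : Cfsg.Spor.ON, p * q = q * p := fun p q =>
        (Subgroup.mem_center_iff.mp (h ▸ Subgroup.mem_top p) q).symm
      letI : CommGroup Cfsg.Spor.ON := { (inferInstance : Group Cfsg.Spor.ON) with mul_comm := hcomm }
      have hp := IsSimpleGroup.prime_card (α := Cfsg.Spor.ON)
      rw [ONanCert.card_ON] at hp
      exact absurd (hp.eq_one_or_self_of_dvd 2 (by norm_num)) (by norm_num)
  · rw [MonoidHom.mem_ker] at hx
    have hz : (x : SL45) ∈ Subgroup.center SL45 := pr_eq_one.mp hx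
    exact Subgroup.mem_center_iff.mpr fun y =>
      Subtype.ext (Subgroup.mem_center_iff.mp hz y.val)

theorem card_center_cover : Nat.card (Subgroup.center cover) = 3 := by
  have h : prC.ker = (Subgroup.center SL45).subgroupOf cover := by
    ext x
    rw [MonoidHom.mem_ker, Subgroup.mem_subgroupOf]
    exact pr_eq_one
  rw [center_cover, h, Nat.card_congr (Subgroup.subgroupOfEquivOfLe center_le_cover).toEquiv,
    card_center_SL]

/-- The quotient of the cover by its centre is the presented group. -/
def coverQuot : cover ⧸ Subgroup.center cover ≃* Cfsg.Spor.ON :=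
  (QuotientGroup.quotientMulEquivOfEq center_cover).trans
    ((QuotientGroup.quotientKerEquivRange prC).trans
      ((MulEquiv.subgroupCongr (by
        rw [prC, MonoidHom.range_comp, Subgroup.range_subtype, map_cover])).trans
        (MonoidHom.ofInjective toPSL_injective).symm))

theorem isON_coverQuot : Cfsg.IsON (cover ⧸ Subgroup.center cover) := by
  obtain ⟨hs, hc⟩ := ONanAct.isON ONanCert.card_ON_le
  exact ⟨MulEquiv.isSimpleGroup coverQuot, (Nat.card_congr coverQuot.toEquiv).trans hc⟩

end

end CfsgLib.ONanFortyFive
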